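import Mathlib
import Groth.Agent.Lib.Helper8.Brnch.EtaleCount
import Groth.Agent.Lib.Helper8.Hens.StrictQuot
import Groth.Agent.Lib.Helper8.Hens.Noeth

/-!
# Punctured spectrum of the strict henselization and geometric unibranchness: algebra (helper8)
-/

universe u
open IsLocalRing TensorProduct

namespace Groth.Agent.H8.Punct

open Groth.Agent.H8.Hens Groth.Agent.H8.Brnch Groth.Agent.H4.IndEtCrit

section Subset

/-- Finitely many minimal primes of a flat ind-étale algebra are separated on an étale
algebra (subset version). -/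
theorem exists_etale_le_encard_subset {R B : Type u} [CommRing R] [CommRing B] [Algebra R B]
    [Module.Flat R B] (hc : Crit R B) (T : Set (Ideal B)) (hT : T ⊆ minimalPrimes B)
    (hfin : T.Finite) :
    ∃ (C : Type u) (_ : CommRing C) (_ : Algebra R C) (_ : Algebra.Etale R C) (g : C →ₐ[R] B),
      ∀ 𝔪 : Ideal B, (∀ P ∈ T, P ≤ 𝔪) →
        T.encard ≤ {Q : Ideal C | Q ∈ minimalPrimes C ∧ Q ≤ 𝔪.comap g.toRingHom}.encard := by
  classical
  let sep : Ideal B → Ideal B → B := fun P P' =>
    if h : ∃ x, x ∈ P ∧ x ∉ P' then h.choose else 0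
  have hsep : ∀ P ∈ T, ∀ P' ∈ T, P ≠ P' → sep P P' ∈ P ∧ sep P P' ∉ P' := by
    intro P hP P' hP' hne
    have hnle : ¬ P ≤ P' := fun hle => hne (le_antisymm hle ((hT hP').2 (hT hP).1 hle))
    have h : ∃ x, x ∈ P ∧ x ∉ P' := SetLike.not_le_iff_exists.mp hnle
    simp only [sep, dif_pos h]
    exact h.choose_spec
  let F : Finset B := (hfin.toFinset ×ˢ hfin.toFinset).image (fun pp => sep pp.1 pp.2)
  obtain ⟨C, _, _, _, g, hg⟩ := Crit.exists_finset hc F
  refine ⟨C, inferInstance, inferInstance, inferInstance, g, fun 𝔪 h𝔪 => ?_⟩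
  have hinj : Set.InjOn (Ideal.comap g.toRingHom) T := by
    intro P hP P' hP' heq
    by_contra hne
    obtain ⟨h1, h2⟩ := hsep P hP P' hP' hne
    have hF : sep P P' ∈ (F : Set B) := by
      rw [Finset.mem_coe, Finset.mem_image]
      exact ⟨(P, P'), by simp [hP, hP'], rfl⟩
    obtain ⟨c, hc'⟩ := hg hF
    have hcP : c ∈ Ideal.comap g.toRingHom P := by
      rw [Ideal.mem_comap]; show g c ∈ P; rw [hc']; exact h1
    rw [heq, Ideal.mem_comap] at hcP
    apply h2
    rw [← hc']
    exact hcP
  have hsub : Ideal.comap g.toRingHom '' T ⊆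
      {Q : Ideal C | Q ∈ minimalPrimes C ∧ Q ≤ 𝔪.comap g.toRingHom} := by
    rintro _ ⟨P, hP, rfl⟩
    haveI := (hT hP).1.1
    refine ⟨?_, Ideal.comap_mono (h𝔪 P hP)⟩
    haveI : (Ideal.comap g.toRingHom P).IsPrime := Ideal.comap_isPrime _ _
    apply mem_minimalPrimes_of_quasiFinite (R := R)
    have h1 : (Ideal.comap g.toRingHom P).under R = P.under R := by
      ext r
      simp only [Ideal.under, Ideal.mem_comap]
      show g (algebraMap R C r) ∈ P ↔ _
      rw [g.commutes]
    rw [h1]
    exact under_mem_minimalPrimes_of_flat (hT hP)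
  calc T.encard = (Ideal.comap g.toRingHom '' T).encard := (hinj.encard_image).symm
    _ ≤ _ := Set.encard_le_encard hsub

end Subset

section Conn

/-- If `A` is geometrically unibranch of positive dimension, the punctured spectrum of a strict
henselization is connected. -/
theorem connectedSpace_punctured_of_isGeomUnibranch (A Ash : Type u) [CommRing A] [IsLocalRing A]
    [CommRing Ash] [IsLocalRing Ash] [Algebra A Ash] [IsLocalHom (algebraMap A Ash)]
    [Hensel.IsStrictHenselization A Ash]
    (hGU : CAlg2.IsGeomUnibranch A) (hdim : maximalIdeal A ∉ minimalPrimes A) :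
    ConnectedSpace ↥({closedPoint Ash}ᶜ : Set (PrimeSpectrum Ash)) := by
  obtain ⟨P, hP, huniq⟩ := (UMP.isGeomUnibranch_iff (A := A) (Ash := Ash)).mp hGU
  haveI : P.IsPrime := hP.1.1
  haveI : Module.FaithfullyFlat A Ash := faithfullyFlat_of_isStrictHenselization (R := A) Ash
  have hPne : P ≠ maximalIdeal Ash := by
    intro h
    apply hdim
    have h1 := under_mem_minimalPrimes_of_flat (R := A) hP
    rw [h] at h1
    have h2 : (maximalIdeal Ash).under A = maximalIdeal A :=
      ((local_hom_TFAE (algebraMap A Ash)).out 0 4).mp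
        (inferInstance : IsLocalHom (algebraMap A Ash))
    rwa [h2] at h1
  have hPle : ∀ Q : Ideal Ash, Q.IsPrime → P ≤ Q := by
    intro Q hQ
    obtain ⟨P', hP', hle⟩ := Ideal.exists_minimalPrimes_le (I := ⊥) (J := Q) bot_le
    rwa [huniq P' hP'] at hle
  let xP : PrimeSpectrum Ash := ⟨P, inferInstance⟩
  have hxP : xP ∈ ({closedPoint Ash}ᶜ : Set (PrimeSpectrum Ash)) := by
    intro h
    apply hPne
    have := congrArg PrimeSpectrum.asIdeal (Set.mem_singleton_iff.mp h)
    exact this
  rw [← isConnected_iff_connectedSpace]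
  refine ⟨⟨xP, hxP⟩, ?_⟩
  refine IsPreconnected.subset_closure (isPreconnected_singleton (x := xP))
    (Set.singleton_subset_iff.mpr hxP) ?_
  intro y _
  rw [← specializes_iff_mem_closure, ← PrimeSpectrum.le_iff_specializes]
  exact hPle y.asIdeal y.2

end Conn

end Groth.Agent.H8.Punct
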