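import Mathlib
import Groth.Agent.Lib.Helper8.Punct.AlgA

universe u
open IsLocalRing TensorProduct

namespace Groth.Agent.H8.Punct

open Groth.Agent.H8.Hens Groth.Agent.H8.Brnch Groth.Agent.H4.IndEtCrit

section Two

/-- In a Noetherian local ring with connected punctured spectrum and at least two minimal primes,
two distinct minimal primes lie in a common non-maximal prime. -/
theorem exists_two_minimalPrimes_le_of_connected (S : Type u) [CommRing S] [IsLocalRing S]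
    [IsNoetherianRing S]
    (hconn : ConnectedSpace ↥({closedPoint S}ᶜ : Set (PrimeSpectrum S)))
    (hmin : ¬ CAlgX.HasUniqueMinimalPrime S) (hdim : maximalIdeal S ∉ minimalPrimes S) :
    ∃ (P P' Q : Ideal S), P ∈ minimalPrimes S ∧ P' ∈ minimalPrimes S ∧ P ≠ P' ∧ Q.IsPrime ∧
      Q ≠ maximalIdeal S ∧ P ≤ Q ∧ P' ≤ Q := by
  classical
  have hpre : IsPreconnected ({closedPoint S}ᶜ : Set (PrimeSpectrum S)) :=
    (isConnected_iff_connectedSpace.mpr hconn).2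
  obtain ⟨P₁, hP₁, -⟩ := Ideal.exists_minimalPrimes_le (I := (⊥ : Ideal S))
    (J := maximalIdeal S) bot_le
  have hP₁' : P₁ ∈ minimalPrimes S := hP₁
  obtain ⟨P₂, hP₂, hne⟩ : ∃ P₂ ∈ minimalPrimes S, P₂ ≠ P₁ := by
    by_contra hcon
    push Not at hcon
    exact hmin ⟨P₁, hP₁', fun Q hQ => hcon Q hQ⟩
  have hfin : (minimalPrimes S).Finite := minimalPrimes.finite_of_isNoetherianRing S
  let t : Set (PrimeSpectrum S) := PrimeSpectrum.zeroLocus (P₁ : Set S)
  let t' : Set (PrimeSpectrum S) := ⋃ P ∈ (minimalPrimes S \ {P₁}), PrimeSpectrum.zeroLocus (P : Set S)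
  have ht : IsClosed t := PrimeSpectrum.isClosed_zeroLocus _
  have ht' : IsClosed t' :=
    (hfin.subset Set.sdiff_subset).isClosed_biUnion fun P _ => PrimeSpectrum.isClosed_zeroLocus _
  have hne_max : ∀ P ∈ minimalPrimes S, P ≠ maximalIdeal S := fun P hP h => hdim (h ▸ hP)
  have hcover : ({closedPoint S}ᶜ : Set (PrimeSpectrum S)) ⊆ t ∪ t' := by
    intro y _
    obtain ⟨P, hP, hle⟩ := Ideal.exists_minimalPrimes_le (I := (⊥ : Ideal S)) (J := y.asIdeal) bot_le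
    by_cases h : P = P₁
    · left
      rw [h] at hle
      exact (PrimeSpectrum.mem_zeroLocus _ _).mpr hle
    · right
      exact Set.mem_biUnion (⟨hP, h⟩ : P ∈ minimalPrimes S \ {P₁})
        ((PrimeSpectrum.mem_zeroLocus _ _).mpr hle)
  have hpt : ∀ P (hP : P ∈ minimalPrimes S),
      (⟨P, hP.1.1⟩ : PrimeSpectrum S) ∈ ({closedPoint S}ᶜ : Set (PrimeSpectrum S)) := by
    intro P hP h
    apply hne_max P hP
    exact congrArg PrimeSpectrum.asIdeal (Set.mem_singleton_iff.mp h)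
  have h1 : (({closedPoint S}ᶜ : Set (PrimeSpectrum S)) ∩ t).Nonempty :=
    ⟨⟨P₁, hP₁'.1.1⟩, hpt P₁ hP₁', (PrimeSpectrum.mem_zeroLocus _ _).mpr le_rfl⟩
  have h2 : (({closedPoint S}ᶜ : Set (PrimeSpectrum S)) ∩ t').Nonempty :=
    ⟨⟨P₂, hP₂.1.1⟩, hpt P₂ hP₂, Set.mem_biUnion (⟨hP₂, hne⟩ : P₂ ∈ minimalPrimes S \ {P₁})
      ((PrimeSpectrum.mem_zeroLocus _ _).mpr le_rfl)⟩
  obtain ⟨y, hy, hyt, hyt'⟩ := isPreconnected_closed_iff.mp hpre t t' ht ht' hcover h1 h2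
  obtain ⟨P, hP, hyP⟩ := Set.mem_iUnion₂.mp hyt'
  refine ⟨P₁, P, y.asIdeal, hP₁', hP.1, fun h => hP.2 h.symm, y.2, ?_,
    (PrimeSpectrum.mem_zeroLocus _ _).mp hyt, (PrimeSpectrum.mem_zeroLocus _ _).mp hyP⟩
  intro h
  apply hy
  exact PrimeSpectrum.ext h

end Two

end Groth.Agent.H8.Punct
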