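import Mathlib
import Groth.Agent.Lib.Helper8.Punct.AlgB
import Groth.Agent.Lib.Helper8.FE.Descent
import Groth.Agent.Lib.Helper8.FE.Basic

universe u
open IsLocalRing TensorProduct

namespace Groth.Agent.H8.Punct

open Groth.Agent.H8.Hens Groth.Agent.H8.Brnch Groth.Agent.H4.IndEtCrit Groth.Agent.H8.FE

section Dim

/-- The maximal ideal of `R_p` is a minimal prime iff `p` is a minimal prime. -/
theorem maximalIdeal_mem_minimalPrimes_iff {R : Type u} [CommRing R] (p : Ideal R) [p.IsPrime]
    (Rp : Type u) [CommRing Rp] [Algebra R Rp] [IsLocalization.AtPrime Rp p] [IsLocalRing Rp] :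
    maximalIdeal Rp ∈ minimalPrimes Rp ↔ p ∈ minimalPrimes R := by
  rw [← Ideal.height_eq_zero_iff, ← Ideal.height_eq_zero_iff]
  have h1 := IsLocalization.AtPrime.ringKrullDim_eq_height p Rp
  have h2 := IsLocalRing.maximalIdeal_height_eq_ringKrullDim (R := Rp)
  rw [h1] at h2
  have h3 : (maximalIdeal Rp).height = p.height := by exact_mod_cast h2
  rw [h3]

end Dim

section Zero

/-- If the maximal ideal of `A` is a minimal prime, `A` is geometrically unibranch. -/
theorem isGeomUnibranch_of_maximalIdeal_mem_minimalPrimes (A : Type u) [CommRing A] [IsLocalRing A]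
    (h : maximalIdeal A ∈ minimalPrimes A) : CAlg2.IsGeomUnibranch A := by
  set Ash := StrictHenselization A
  haveI hS : Hensel.IsStrictHenselization A Ash := isStrictHenselization
  rw [UMP.isGeomUnibranch_iff (A := A) (Ash := Ash)]
  haveI : Module.FaithfullyFlat A Ash := faithfullyFlat_of_isStrictHenselization (R := A) Ash
  have hmax : ∀ P ∈ minimalPrimes Ash, P = maximalIdeal Ash := by
    intro P hP
    haveI : P.IsPrime := hP.1.1
    have h1 : P.under A ≤ maximalIdeal A := le_maximalIdeal (Ideal.IsPrime.ne_top inferInstance)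
    have h2 : maximalIdeal A ≤ P.under A := h.2 ⟨inferInstance, bot_le⟩ h1
    have h3 : (maximalIdeal A).map (algebraMap A Ash) ≤ P := Ideal.map_le_iff_le_comap.mpr h2
    rw [map_maximalIdeal_of_isStrictHenselization (R := A) Ash] at h3
    exact le_antisymm (le_maximalIdeal (Ideal.IsPrime.ne_top inferInstance)) h3
  obtain ⟨P₀, hP₀, -⟩ := Ideal.exists_minimalPrimes_le (I := (⊥ : Ideal Ash))
    (J := maximalIdeal Ash) bot_le
  exact ⟨P₀, hP₀, fun Q hQ => by rw [hmax Q hQ, hmax P₀ hP₀]⟩

end Zero

section Induct

variable (R : Type u) [CommRing R] [IsNoetherianRing R]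

/-- The induction: if the punctured spectra of the strict henselizations of all local rings of
positive dimension of a Noetherian ring are connected, all its local rings are geometrically
unibranch. -/
theorem isGeomUnibranch_localization_of_connected
    (H : ∀ (q : Ideal R) [q.IsPrime], q ∉ minimalPrimes R →
      ConnectedSpace ↥({closedPoint (StrictHenselization (Localization.AtPrime q))}ᶜ :
        Set (PrimeSpectrum (StrictHenselization (Localization.AtPrime q)))))
    (p : Ideal R) [hp : p.IsPrime] : CAlg2.IsGeomUnibranch (Localization.AtPrime p) := by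
  obtain ⟨n, hn⟩ : ∃ n : ℕ, p.height = n := by
    obtain ⟨n, hn⟩ := ENat.ne_top_iff_exists.mp (Ideal.height_ne_top_of_isPrime (I := p))
    exact ⟨n, hn.symm⟩
  induction n using Nat.strong_induction_on generalizing p with
  | _ n ih =>
  by_cases hpmin : p ∈ minimalPrimes R
  · exact isGeomUnibranch_of_maximalIdeal_mem_minimalPrimes _
      ((maximalIdeal_mem_minimalPrimes_iff p (Localization.AtPrime p)).mpr hpmin)
  set A := Localization.AtPrime p with hA
  set Ash := StrictHenselization A with hAsh
  haveI hS : Hensel.IsStrictHenselization A Ash := isStrictHenselization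
  rw [UMP.isGeomUnibranch_iff (A := A) (Ash := Ash)]
  by_contra hnot
  haveI : Module.FaithfullyFlat A Ash := faithfullyFlat_of_isStrictHenselization (R := A) Ash
  haveI : IsNoetherianRing A := IsLocalization.isNoetherianRing p.primeCompl A inferInstance
  haveI : IsNoetherianRing Ash := (isNoetherianRing_iff_of_isStrictHenselization (R := A) Ash).mp
    inferInstance
  have hcomap : (maximalIdeal Ash).under A = maximalIdeal A :=
    ((local_hom_TFAE (algebraMap A Ash)).out 0 4).mp
      (inferInstance : IsLocalHom (algebraMap A Ash))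
  have hdimS : maximalIdeal Ash ∉ minimalPrimes Ash := by
    intro h
    apply hpmin
    have h1 := under_mem_minimalPrimes_of_flat (R := A) h
    rw [hcomap] at h1
    exact (maximalIdeal_mem_minimalPrimes_iff p A).mp h1
  obtain ⟨P, P', Q, hP, hP', hne, hQ, hQne, hPQ, hP'Q⟩ :=
    exists_two_minimalPrimes_le_of_connected Ash (H p hpmin) hnot hdimS
  letI : Algebra R Ash := ((algebraMap A Ash).comp (algebraMap R A)).toAlgebra
  haveI : IsScalarTower R A Ash := IsScalarTower.of_algebraMap_eq fun _ => rfl
  have hcrit : Crit R Ash := crit_strictHenselization_atPrime R p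
  haveI : Module.Flat R Ash := Module.Flat.trans R A Ash
  have hTfin : ({P, P'} : Set (Ideal Ash)).Finite := Set.toFinite _
  have hTsub : ({P, P'} : Set (Ideal Ash)) ⊆ minimalPrimes Ash := by
    rintro x (rfl | rfl)
    · exact hP
    · exact hP'
  obtain ⟨C, _, _, _, g, hg⟩ := exists_etale_le_encard_subset hcrit {P, P'} hTsub hTfin
  have h2 : ({P, P'} : Set (Ideal Ash)).encard = 2 := Set.encard_pair hne
  have hle := hg Q (by
    rintro x (rfl | rfl)
    · exact hPQ
    · exact hP'Q)
  rw [h2] at hle
  set QC := Q.comap g.toRingHom with hQC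
  haveI : QC.IsPrime := Ideal.comap_isPrime _ _
  set q := QC.comap (algebraMap R C) with hq
  haveI : q.IsPrime := Ideal.comap_isPrime _ _
  haveI : QC.LiesOver q := ⟨rfl⟩
  have hqQ : q = Q.comap (algebraMap R Ash) := by
    ext r
    simp only [hq, hQC, Ideal.mem_comap]
    show g (algebraMap R C r) ∈ Q ↔ _
    rw [g.commutes]
  -- q < p
  have hRA : (maximalIdeal A).comap (algebraMap R A) = p :=
    IsLocalization.AtPrime.under_maximalIdeal A p
  have hQA : Q.comap (algebraMap A Ash) ≤ maximalIdeal A :=
    le_maximalIdeal (Ideal.IsPrime.ne_top (Ideal.comap_isPrime _ _))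
  have hqle : q ≤ p := by
    have : q ≤ (maximalIdeal A).comap (algebraMap R A) := by
      rw [hqQ, IsScalarTower.algebraMap_eq R A Ash, ← Ideal.comap_comap]
      exact Ideal.comap_mono hQA
    rwa [hRA] at this
  have hqne : q ≠ p := by
    intro heq
    apply hQne
    haveI : (Q.comap (algebraMap A Ash)).IsPrime := Ideal.comap_isPrime _ _
    have h3 : (Q.comap (algebraMap A Ash)).comap (algebraMap R A) = p := by
      rw [Ideal.comap_comap, ← IsScalarTower.algebraMap_eq R A Ash, ← hqQ, heq]
    have h4 : Q.comap (algebraMap A Ash) = maximalIdeal A := by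
      have e1 := IsLocalization.map_under p.primeCompl A (Q.comap (algebraMap A Ash))
      have e2 := IsLocalization.map_under p.primeCompl A (maximalIdeal A)
      have h3' : (Q.comap (algebraMap A Ash)).under R = (maximalIdeal A).under R := h3.trans hRA.symm
      rw [← e1, ← e2, h3']
    have h5 : (maximalIdeal A).map (algebraMap A Ash) ≤ Q :=
      Ideal.map_le_iff_le_comap.mpr h4.ge
    rw [map_maximalIdeal_of_isStrictHenselization (R := A) Ash] at h5
    exact le_antisymm (le_maximalIdeal hQ.ne_top) h5
  have hlt : q < p := lt_of_le_of_ne hqle hqne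
  have hht : q.height < p.height := Ideal.height_strict_mono_of_isPrime hlt
  obtain ⟨m, hm⟩ : ∃ m : ℕ, q.height = m := by
    obtain ⟨m, hm⟩ := ENat.ne_top_iff_exists.mp (Ideal.height_ne_top_of_isPrime (I := q))
    exact ⟨m, hm.symm⟩
  have hmn : m < n := by
    rw [hm, hn] at hht
    exact_mod_cast hht
  have hGUq := ih m hmn q hm
  rw [isGeomUnibranch_iff_numGeomBranches] at hGUq
  have e1 := encard_le_card_minimalPrimes_localization C QC
  have e2 := card_minimalPrimes_le_numGeomBranches (Localization.AtPrime QC)
  have e3 := numGeomBranches_eq_of_etale R C q QC (Localization.AtPrime q) (Localization.AtPrime QC)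
  have : (2 : ℕ∞) ≤ 1 := by
    calc (2 : ℕ∞) ≤ _ := hle
      _ ≤ _ := e1
      _ ≤ _ := e2
      _ = _ := e3
      _ = 1 := hGUq
  exact absurd this (by norm_num)

end Induct

end Groth.Agent.H8.Punct
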