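import Mathlib
import Groth.Agent.Lib.Helper8.Punct.AlgC
import Groth.Agent.Lib.Helper8.Hens.EtaleGU2

universe u
open CategoryTheory AlgebraicGeometry IsLocalRing TopologicalSpace

namespace Groth.Agent.H8.Punct

open Groth.Agent.H8.Hens Groth.Agent.H8.Brnch

section Top

/-- In a quasi-sober space, `closure {x}` is an irreducible component iff `x` has no proper
generization. -/
theorem closure_singleton_mem_irreducibleComponents_iff {α : Type*} [TopologicalSpace α]
    [QuasiSober α] (x : α) :
    closure ({x} : Set α) ∈ irreducibleComponents α ↔ ∀ y : α, y ⤳ x → x ⤳ y := by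
  constructor
  · intro h y hy
    have h1 : closure ({x} : Set α) ⊆ closure {y} := by
      apply closure_minimal _ isClosed_closure
      rw [Set.singleton_subset_iff]
      exact specializes_iff_mem_closure.mp hy
    have h2 : closure ({y} : Set α) ⊆ closure {x} :=
      h.2 (isIrreducible_singleton.closure) h1
    rw [specializes_iff_mem_closure]
    exact h2 (subset_closure rfl)
  · intro h
    refine ⟨isIrreducible_singleton.closure, fun s hs hle => ?_⟩
    have hs' : IsIrreducible (closure s) := hs.closure
    obtain ⟨z, hz⟩ := QuasiSober.sober hs' isClosed_closure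
    have hxz : z ⤳ x := by
      rw [specializes_iff_mem_closure, hz.def]
      exact subset_closure (hle (subset_closure rfl))
    have hzx : x ⤳ z := h z hxz
    have h3 : closure ({z} : Set α) ⊆ closure {x} := by
      apply closure_minimal _ isClosed_closure
      rw [Set.singleton_subset_iff]
      exact specializes_iff_mem_closure.mp hzx
    calc s ⊆ closure s := subset_closure
      _ = closure {z} := hz.def.symm
      _ ⊆ closure {x} := h3

end Top

section Sch

/-- A point of a scheme is the generic point of an irreducible component iff the maximal ideal of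
its local ring is a minimal prime. -/
theorem closure_mem_irreducibleComponents_iff_stalk (X : Scheme.{u}) (x : X) :
    closure ({x} : Set X) ∈ irreducibleComponents X ↔
      maximalIdeal (X.presheaf.stalk x) ∈ minimalPrimes (X.presheaf.stalk x) := by
  rw [closure_singleton_mem_irreducibleComponents_iff, ← Ideal.height_eq_zero_iff]
  have h1 := IsLocalRing.maximalIdeal_height_eq_ringKrullDim (R := X.presheaf.stalk x)
  have h2 := ringKrullDim_stalk_eq_coheight x
  have h3 : (maximalIdeal (X.presheaf.stalk x)).height = Order.coheight x := by
    exact_mod_cast h1.trans h2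
  rw [h3, Order.coheight_eq_zero]
  exact ⟨fun h y hy => h y hy, fun h y hy => h hy⟩

/-- Transfer of the connectedness of the punctured spectrum of strict henselizations along a
ring isomorphism. -/
theorem connectedSpace_punctured_transfer {A A' : Type u} [CommRing A] [IsLocalRing A]
    [CommRing A'] [IsLocalRing A'] (e : A ≃+* A')
    (H : ∀ (Ash : Type u) [CommRing Ash] [IsLocalRing Ash] [Algebra A' Ash]
      [IsLocalHom (algebraMap A' Ash)] [Hensel.IsStrictHenselization A' Ash],
      ConnectedSpace ↥({closedPoint Ash}ᶜ : Set (PrimeSpectrum Ash))) :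
    ConnectedSpace ↥({closedPoint (StrictHenselization A)}ᶜ :
      Set (PrimeSpectrum (StrictHenselization A))) := by
  haveI := isStrictHenselization (R := A)
  letI : Algebra A' (StrictHenselization A) :=
    ((algebraMap A (StrictHenselization A)).comp (e.symm : A' →+* A)).toAlgebra
  have he : (algebraMap A' (StrictHenselization A)).comp (e : A →+* A') =
      algebraMap A (StrictHenselization A) := by
    refine RingHom.ext fun a => ?_
    show algebraMap A (StrictHenselization A) (e.symm (e a)) = _
    rw [RingEquiv.symm_apply_apply]
  haveI : IsLocalHom (e.symm : A' →+* A) := ⟨fun a ha => by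
    have := ha.map (e : A →+* A')
    simpa using this⟩
  haveI : IsLocalHom (algebraMap A' (StrictHenselization A)) :=
    RingHom.isLocalHom_comp (algebraMap A (StrictHenselization A)) (e.symm : A' →+* A)
  haveI := GU.isStrictHenselization_of_ringEquiv (S := StrictHenselization A) e he
  exact H (StrictHenselization A)

/-- A Noetherian scheme is geometrically unibranch iff the punctured spectra of the strict
henselizations of its local rings of positive dimension are connected. -/
theorem isGeomUnibranch_iff_punctured_connected (X : Scheme.{u}) [IsNoetherian X] :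
    (∀ x : X, CAlg2.IsGeomUnibranch (X.presheaf.stalk x)) ↔
      ∀ (x : X), closure ({x} : Set X) ∉ irreducibleComponents X →
        ∀ (Ash : Type u) [CommRing Ash] [IsLocalRing Ash] [Algebra (X.presheaf.stalk x) Ash]
          [IsLocalHom (algebraMap (X.presheaf.stalk x) Ash)]
          [Hensel.IsStrictHenselization (X.presheaf.stalk x) Ash],
          ConnectedSpace ↥({IsLocalRing.closedPoint Ash}ᶜ : Set (PrimeSpectrum Ash)) := by
  constructor
  · intro hGU x hx Ash _ _ _ _ _
    refine connectedSpace_punctured_of_isGeomUnibranch (X.presheaf.stalk x) Ash (hGU x) ?_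
    rwa [← closure_mem_irreducibleComponents_iff_stalk]
  · intro H x
    obtain ⟨U, hU, hxU⟩ : ∃ U : X.Opens, IsAffineOpen U ∧ x ∈ U := by
      obtain ⟨_, ⟨V, hV, rfl⟩, hxV, -⟩ :=
        X.isBasis_affineOpens.exists_subset_of_mem_open (Set.mem_univ x) isOpen_univ
      exact ⟨V, hV, hxV⟩
    haveI : IsNoetherianRing Γ(X, U) := IsLocallyNoetherian.component_noetherian ⟨U, hU⟩
    let p := (hU.primeIdealOf ⟨x, hxU⟩).asIdeal
    let _ := X.presheaf.algebra_section_stalk ⟨x, hxU⟩
    have h1 : IsLocalization.AtPrime (X.presheaf.stalk x) p := hU.isLocalization_stalk ⟨x, hxU⟩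
    let eA : Localization.AtPrime p ≃ₐ[Γ(X, U)] X.presheaf.stalk x :=
      IsLocalization.algEquiv p.primeCompl _ _
    refine isGeomUnibranch_of_ringEquiv eA.toRingEquiv ?_
    refine isGeomUnibranch_localization_of_connected Γ(X, U) ?_ p
    intro q _ hq
    let y : PrimeSpectrum Γ(X, U) := ⟨q, inferInstance⟩
    have hyU : hU.fromSpec y ∈ U := by
      have : hU.fromSpec y ∈ hU.fromSpec.opensRange := ⟨y, rfl⟩
      rwa [hU.opensRange_fromSpec] at this
    let _ := X.presheaf.algebra_section_stalk ⟨hU.fromSpec y, hyU⟩
    have h2 : IsLocalization.AtPrime (X.presheaf.stalk (hU.fromSpec y)) q :=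
      hU.isLocalization_stalk' y hyU
    let eq : Localization.AtPrime q ≃ₐ[Γ(X, U)] X.presheaf.stalk (hU.fromSpec y) :=
      IsLocalization.algEquiv q.primeCompl _ _
    refine connectedSpace_punctured_transfer eq.toRingEquiv ?_
    intro Ash _ _ _ _ _
    refine H (hU.fromSpec y) ?_ Ash
    rw [closure_mem_irreducibleComponents_iff_stalk,
      maximalIdeal_mem_minimalPrimes_iff q (X.presheaf.stalk (hU.fromSpec y))]
    exact hq

end Sch

end Groth.Agent.H8.Punct
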